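import Groth.Agent.Lib.SectionChart.Ring
import Mathlib.AlgebraicGeometry.AffineSpace
import Mathlib.AlgebraicGeometry.Morphisms.Etale
import Mathlib.AlgebraicGeometry.Morphisms.Smooth

/-!
Étale charts along a section in the smooth locus.
-/

set_option autoImplicit false
universe u

open AlgebraicGeometry CategoryTheory Limits

namespace Groth.Agent.Lib.SectionChart.Main

/-- Finite-dimensional affine space is smooth over its base. -/
theorem smooth_over (n : Type u) [Finite n] (S : Scheme.{u}) : Smooth (AffineSpace n S ↘ S) :=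
  MorphismProperty.pullback_fst (P := @Smooth) _ _ <| by
    have := isIso_of_isTerminal specULiftZIsTerminal.{u} terminalIsTerminal (terminal.from _)
    rw [← terminal.comp_from (Spec.map (CommRingCat.ofHom MvPolynomial.C)),
      MorphismProperty.cancel_right_of_respectsIso (P := @Smooth),
      HasRingHomProperty.Spec_iff (P := @Smooth), RingHom.Smooth]
    convert (⟨inferInstance, inferInstance⟩ : Algebra.Smooth (ULift.{u} ℤ) (MvPolynomial n (ULift.{u} ℤ))) using 0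
    exact iff_of_eq (congrArg (fun a : Algebra (ULift.{u} ℤ) (MvPolynomial n (ULift.{u} ℤ)) =>
      @Algebra.Smooth _ _ _ _ a) (Algebra.algebra_ext _ _ fun _ => rfl))

variable {X Y : Scheme.{u}}

/-- The algebra on sections over an affine open in the smooth locus is smooth. -/
theorem smooth_appLE (f : X ⟶ Y) [LocallyOfFinitePresentation f] {U : Y.Opens} (hU : IsAffineOpen U)
    {V : X.Opens} (hV : IsAffineOpen V) (e : V ≤ f ⁻¹ᵁ U) (h : V ≤ f.smoothLocus) :
    (f.appLE U V e).hom.Smooth := by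
  algebraize [(f.appLE U V e).hom]
  have hfp : Algebra.FinitePresentation Γ(Y, U) Γ(X, V) := f.finitePresentation_appLE hU hV e
  refine ⟨(Algebra.smoothLocus_eq_univ_iff).1 (Set.eq_univ_of_forall fun q => ?_), hfp⟩
  have hq : hV.fromSpec q ∈ V := hV.range_fromSpec.le ⟨q, rfl⟩
  have h1 := (formallySmooth_stalkMap_iff U hU V hV e hq).1 (h hq)
  rwa [show hV.primeIdealOf ⟨hV.fromSpec q, hq⟩ = q from
    hV.fromSpec.isOpenEmbedding.injective (hV.fromSpec_primeIdealOf ⟨_, hq⟩)] at h1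

open AffineSpace in
/-- A map to affine space over an affine base is étale if the polynomial map is. -/
theorem etale_homOfVector {n : Type u} {V U : Scheme.{u}} [IsAffine V] [IsAffine U] (f : V ⟶ U)
    (v : n → Γ(V, ⊤)) (h : (MvPolynomial.eval₂Hom f.appTop.hom v).Etale) :
    Etale (homOfVector f v) := by
  rw [← MorphismProperty.cancel_right_of_respectsIso @Etale _ (isoOfIsAffine n U).hom,
    HasRingHomProperty.iff_of_isAffine (P := @Etale), Scheme.Hom.comp_appTop, isoOfIsAffine_hom_appTop,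
    Category.assoc, CommRingCat.hom_comp, RingHom.Etale.respectsIso.cancel_left_isIso]
  suffices hh : (CommRingCat.ofHom (MvPolynomial.eval₂Hom (AffineSpace n U ↘ U).appTop.hom (coord U)) ≫
      (homOfVector f v).appTop).hom = MvPolynomial.eval₂Hom f.appTop.hom v by
    exact (congrArg (fun φ : MvPolynomial n Γ(U, ⊤) →+* Γ(V, ⊤) => φ.Etale) hh).mpr h
  refine MvPolynomial.ringHom_ext (fun r => ?_) (fun i => ?_)
  · simp only [CommRingCat.hom_comp, CommRingCat.hom_ofHom, RingHom.comp_apply, MvPolynomial.eval₂Hom_C]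
    conv_rhs => rw [← homOfVector_over f v, Scheme.Hom.comp_appTop]
    rfl
  · simp only [CommRingCat.hom_comp, CommRingCat.hom_ofHom, RingHom.comp_apply, MvPolynomial.eval₂Hom_X']
    exact homOfVector_appTop_coord _ _ _

theorem mem_smoothLocus_of_chart {f : X ⟶ Y} [LocallyOfFinitePresentation f] {U : Y.Opens}
    {V : X.Opens} (hVU : V ≤ f ⁻¹ᵁ U) {m : ℕ} (v : ULift.{u} (Fin m) → Γ(V, ⊤))
    [Etale (AffineSpace.homOfVector (f.resLE U V hVU) v)] {x : X} (hx : x ∈ V) :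
    x ∈ f.smoothLocus := by
  have : Smooth (V.ι ≫ f) := by
    rw [← Scheme.Hom.resLE_comp_ι f hVU, ← AffineSpace.homOfVector_over (f.resLE U V hVU) v]
    have := smooth_over (ULift.{u} (Fin m)) (U : Scheme.{u})
    infer_instance
  have h1 := (V.ι ≫ f).smoothLocus_eq_top
  rw [← Scheme.Hom.preimage_smoothLocus_eq] at h1
  exact h1.ge (x := ⟨x, hx⟩) trivial

theorem exists_chart [IsLocallyNoetherian Y] (f : X ⟶ Y) [LocallyOfFinitePresentation f]
    (i : Y ⟶ X) (hi : i ≫ f = 𝟙 Y) (y : Y) (hy : i y ∈ f.smoothLocus) :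
    ∃ (U : Y.Opens) (V : X.Opens) (_ : y ∈ U) (hUV : U ≤ i ⁻¹ᵁ V) (hVU : V ≤ f ⁻¹ᵁ U)
      (m : ℕ) (v : ULift.{u} (Fin m) → Γ(V, ⊤)),
      Etale (AffineSpace.homOfVector (f.resLE U V hVU) v) ∧
        ∀ j, (i.resLE V U hUV).appTop (v j) = 0 := by
  classical
  have hfi : ∀ z, f (i z) = z := fun z => by rw [← Scheme.Hom.comp_apply, hi]; rfl
  obtain ⟨_, ⟨U₀, hU₀, rfl⟩, hyU₀, -⟩ :=
    Y.isBasis_affineOpens.exists_subset_of_mem_open (Set.mem_univ y) isOpen_univ
  obtain ⟨_, ⟨V₀, hV₀, rfl⟩, hxV₀, hV₀sub⟩ :=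
    X.isBasis_affineOpens.exists_subset_of_mem_open (a := i y)
      (u := ((f.smoothLocus ⊓ f ⁻¹ᵁ U₀ : X.Opens) : Set X))
      ⟨hy, show f (i y) ∈ U₀ by rwa [hfi]⟩ (f.smoothLocus ⊓ f ⁻¹ᵁ U₀).2
  obtain ⟨r, hr, hyr⟩ := hU₀.exists_basicOpen_le (V := U₀ ⊓ i ⁻¹ᵁ V₀) ⟨y, ⟨hyU₀, hxV₀⟩⟩ hyU₀
  have eV₀ : V₀ ≤ f ⁻¹ᵁ U₀ := fun z hz => (hV₀sub hz).2
  let U₁ := Y.basicOpen r
  have hU₁ : IsAffineOpen U₁ := hU₀.basicOpen r
  let V₁ := X.basicOpen (f.appLE U₀ V₀ eV₀ r)
  have hV₁eq : V₁ = V₀ ⊓ f ⁻¹ᵁ U₁ := Scheme.basicOpen_appLE _ _ _ _ _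
  have hV₁ : IsAffineOpen V₁ := hV₀.basicOpen _
  have e₁ : V₁ ≤ f ⁻¹ᵁ U₁ := hV₁eq.le.trans inf_le_right
  have e₂ : U₁ ≤ i ⁻¹ᵁ V₁ := fun z hz => by
    rw [hV₁eq]
    exact ⟨(hr hz).2, show f (i z) ∈ U₁ by rwa [hfi]⟩
  have hsm : (f.appLE U₁ V₁ e₁).hom.Smooth :=
    smooth_appLE f hU₁ hV₁ e₁ fun z hz => (hV₀sub (hV₁eq.le hz).1).1
  let _ := (f.appLE U₁ V₁ e₁).hom.toAlgebra
  have : Algebra.Smooth Γ(Y, U₁) Γ(X, V₁) := hsm
  let σ : Γ(X, V₁) →ₐ[Γ(Y, U₁)] Γ(Y, U₁) :=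
    { (i.appLE V₁ U₁ e₂).hom with
      commutes' := fun a => by
        show (f.appLE U₁ V₁ e₁ ≫ i.appLE V₁ U₁ e₂) a = a
        rw [Scheme.Hom.appLE_comp_appLE]
        simp only [hi]
        simp [Scheme.Hom.appLE]
        exact ConcreteCategory.congr_hom (Y.presheaf.map_id (Opposite.op U₁)) a }
  let p := hU₁.primeIdealOf ⟨y, hyr⟩
  obtain ⟨m, v, g, hv0, hgp, hdvd, het⟩ := Ring.exists_chart σ p.asIdeal
  let U := Y.basicOpen (σ g)
  let V := X.basicOpen g
  have hUU₁ : U ≤ U₁ := Y.basicOpen_le _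
  have hVV₁ : V ≤ V₁ := X.basicOpen_le _
  have hyU : y ∈ U := by
    have h1 : p ∈ PrimeSpectrum.basicOpen (σ g) := hgp
    have h2 : hU₁.fromSpec p ∈ U := (hU₁.fromSpec_preimage_basicOpen (σ g)).ge h1
    rwa [hU₁.fromSpec_primeIdealOf] at h2
  have hUV : U ≤ i ⁻¹ᵁ V := by
    have : U = U₁ ⊓ i ⁻¹ᵁ V := Scheme.basicOpen_appLE i U₁ V₁ e₂ g
    exact this.le.trans inf_le_right
  have hVU : V ≤ f ⁻¹ᵁ U := by
    obtain ⟨d, hd⟩ := hdvd
    have h1 : V ≤ X.basicOpen (f.appLE U₁ V₁ e₁ (σ g)) := by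
      have h2 : X.basicOpen (g ^ 2) = V := X.basicOpen_pow g (n := 2) (by omega)
      rw [← h2, hd, Scheme.basicOpen_mul]
      exact inf_le_left
    exact h1.trans ((Scheme.basicOpen_appLE f V₁ U₁ e₁ (σ g)).le.trans inf_le_right)
  let res : Γ(X, V₁) ⟶ Γ(X, V) := X.presheaf.map (homOfLE hVV₁).op
  refine ⟨U, V, hyU, hUV, hVU, m, fun j => V.topIso.inv (res (v j.down)), ?_, fun j => ?_⟩
  swap
  · show (i.resLE V U hUV).app ⊤ (V.topIso.inv (res (v j.down))) = 0
    rw [Scheme.Hom.resLE_app_top]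
    have h1 : res ≫ i.appLE V U hUV = i.appLE V₁ U₁ e₂ ≫ Y.presheaf.map (homOfLE hUU₁).op := by
      simp [res, Scheme.Hom.map_appLE, Scheme.Hom.appLE_map]
    have h2 : i.appLE V U hUV (res (v j.down)) =
        Y.presheaf.map (homOfLE hUU₁).op (i.appLE V₁ U₁ e₂ (v j.down)) :=
      ConcreteCategory.congr_hom h1 _
    show U.topIso.inv (i.appLE V U hUV (V.topIso.hom (V.topIso.inv (res (v j.down))))) = 0
    rw [show V.topIso.hom (V.topIso.inv (res (v j.down))) = res (v j.down) from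
      ConcreteCategory.congr_hom V.topIso.inv_hom_id _, h2]
    have h0 : i.appLE V₁ U₁ e₂ (v j.down) = 0 := hv0 j.down
    rw [h0, map_zero, map_zero]
  set w : ULift.{u} (Fin m) → Γ(V, ⊤) := fun j => V.topIso.inv (res (v j.down))
  have : IsAffine (U₁ : Scheme.{u}) := hU₁
  have : IsAffine (V : Scheme.{u}) := hV₁.basicOpen g
  have hcomp : AffineSpace.homOfVector (f.resLE U V hVU) w ≫ AffineSpace.map _ (Y.homOfLE hUU₁) =
      AffineSpace.homOfVector (f.resLE U₁ V (hVV₁.trans e₁)) w := by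
    ext1
    · simp [Scheme.Hom.resLE_map]
    · simp
  have : IsOpenImmersion (AffineSpace.map (ULift.{u} (Fin m)) (Y.homOfLE hUU₁)) :=
    MorphismProperty.of_isPullback (P := @IsOpenImmersion)
      (AffineSpace.isPullback_map (Y.homOfLE hUU₁)).flip inferInstance
  suffices Etale (AffineSpace.homOfVector (f.resLE U₁ V (hVV₁.trans e₁)) w) by
    rw [← hcomp] at this
    exact Etale.of_comp _ (AffineSpace.map _ (Y.homOfLE hUU₁))
  refine etale_homOfVector _ _ ?_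
  let _ : Algebra Γ(X, V₁) Γ(X, V) := res.hom.toAlgebra
  have : IsLocalization.Away g Γ(X, V) := hV₁.isLocalization_basicOpen g
  let _ : Algebra (MvPolynomial (Fin m) Γ(Y, U₁)) Γ(X, V₁) := (MvPolynomial.aeval v).toRingHom.toAlgebra
  let _ : Algebra (MvPolynomial (Fin m) Γ(Y, U₁)) Γ(X, V) :=
    (res.hom.comp (algebraMap _ Γ(X, V₁))).toAlgebra
  have : IsScalarTower (MvPolynomial (Fin m) Γ(Y, U₁)) Γ(X, V₁) Γ(X, V) :=
    IsScalarTower.of_algebraMap_eq fun _ => rfl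
  have hL : (algebraMap (MvPolynomial (Fin m) Γ(Y, U₁)) Γ(X, V)).Etale := RingHom.etale_algebraMap.2 <| by
    have := het
    exact Algebra.Etale.of_equiv
      ((IsLocalization.algEquiv (Submonoid.powers g) (Localization.Away g) Γ(X, V)).restrictScalars
        (MvPolynomial (Fin m) Γ(Y, U₁)))
  let e : MvPolynomial (ULift.{u} (Fin m)) Γ((U₁ : Scheme.{u}), ⊤) ≃+* MvPolynomial (Fin m) Γ(Y, U₁) :=
    (MvPolynomial.renameEquiv _ Equiv.ulift).toRingEquiv.trans
      (MvPolynomial.mapEquiv _ U₁.topIso.commRingCatIsoToRingEquiv)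
  have heq : MvPolynomial.eval₂Hom (f.resLE U₁ V (hVV₁.trans e₁)).appTop.hom w =
      V.topIso.symm.commRingCatIsoToRingEquiv.toRingHom.comp
        ((algebraMap (MvPolynomial (Fin m) Γ(Y, U₁)) Γ(X, V)).comp e.toRingHom) := by
    refine MvPolynomial.ringHom_ext (fun a => ?_) (fun j => ?_)
    · rw [MvPolynomial.eval₂Hom_C]
      show (f.resLE U₁ V _).app ⊤ a = V.topIso.inv (res (MvPolynomial.aeval v
        (MvPolynomial.map _ (MvPolynomial.rename _ (MvPolynomial.C a)))))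
      rw [MvPolynomial.rename_C, MvPolynomial.map_C, MvPolynomial.aeval_C, Scheme.Hom.resLE_app_top]
      show (U₁.topIso.hom ≫ f.appLE U₁ V (hVV₁.trans e₁) ≫ V.topIso.inv) a = _
      rw [← f.appLE_map e₁ (homOfLE hVV₁).op]
      rfl
    · rw [MvPolynomial.eval₂Hom_X']
      show w j = V.topIso.inv (res (MvPolynomial.aeval v
        (MvPolynomial.map _ (MvPolynomial.rename _ (MvPolynomial.X j)))))
      rw [MvPolynomial.rename_X, MvPolynomial.map_X, MvPolynomial.aeval_X]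
      rfl
  rw [heq]
  exact RingHom.Etale.respectsIso.1 _ _ (RingHom.Etale.respectsIso.2 _ _ hL)

end Groth.Agent.Lib.SectionChart.Main
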