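import Groth.Agent.Lib.JacCrit.EtaleBasis
import Mathlib.RingTheory.Etale.Locus
import Mathlib.RingTheory.Smooth.Locus
import Mathlib.RingTheory.Smooth.StandardSmoothCotangent
import Mathlib.RingTheory.LocalRing.Module
import Mathlib.RingTheory.Kaehler.TensorProduct

/-!
Étale coordinates along a section.
-/

set_option autoImplicit false
universe u

open IsLocalRing

namespace Groth.Agent.Lib.SectionChart.Ring

variable {R C : Type u} [CommRing R] [CommRing C] [Algebra R C] [Algebra.Smooth R C]

/-- Étale coordinates along a section. -/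
theorem exists_chart (σ : C →ₐ[R] R) (p : Ideal R) [p.IsPrime] :
    ∃ (m : ℕ) (v : Fin m → C) (g : C), (∀ i, σ (v i) = 0) ∧ σ g ∉ p ∧ algebraMap R C (σ g) ∣ g ^ 2 ∧
      letI : Algebra (MvPolynomial (Fin m) R) C := (MvPolynomial.aeval v).toRingHom.toAlgebra
      Algebra.Etale (MvPolynomial (Fin m) R) (Localization.Away g) := by
  classical
  let q : Ideal C := p.comap σ
  let L := Localization.AtPrime q
  have : Algebra.IsSmoothAt R q :=
    (Algebra.smoothLocus_eq_univ (R := R) (A := C)).ge (Set.mem_univ (⟨q, inferInstance⟩ : PrimeSpectrum C))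
  have : Algebra.EssFiniteType R L :=
    have : Algebra.EssFiniteType C L := .of_isLocalization _ q.primeCompl
    .comp R C L
  have : Module.Free L (Ω[L⁄R]) := Module.free_of_flat_of_isLocalRing
  let s : Set (Ω[L⁄R]) := (fun c => KaehlerDifferential.D R L (algebraMap C L c)) '' {c | σ c = 0}
  have hs : Submodule.span L s = ⊤ := by
    have hmem : ∀ c : C, KaehlerDifferential.D R L (algebraMap C L c) ∈ Submodule.span L s := fun c => by
      have h := Submodule.subset_span (R := L) (s := s) ⟨c - algebraMap R C (σ c), by simp, rfl⟩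
      simp only [map_sub, ← IsScalarTower.algebraMap_apply R C L, Derivation.map_algebraMap, sub_zero] at h
      exact h
    refine top_le_iff.1 ((KaehlerDifferential.span_range_derivation R L).ge.trans (Submodule.span_le.2 ?_))
    rintro _ ⟨x, rfl⟩
    obtain ⟨⟨a, t⟩, hx⟩ := IsLocalization.surj q.primeCompl x
    have h1 := congrArg (KaehlerDifferential.D R L) hx
    rw [Derivation.leibniz] at h1
    have h2 : algebraMap C L t • KaehlerDifferential.D R L x ∈ Submodule.span L s := by
      have h3 : algebraMap C L t • KaehlerDifferential.D R L x =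
          KaehlerDifferential.D R L (algebraMap C L a) - x • KaehlerDifferential.D R L (algebraMap C L t) :=
        eq_sub_of_add_eq' h1
      rw [h3]
      exact sub_mem (hmem a) (Submodule.smul_mem _ _ (hmem _))
    exact (Submodule.smul_mem_iff_of_isUnit _ (IsLocalization.map_units L t)).1 h2
  have : Module.FinitePresentation L (Ω[L⁄R]) := Module.finitePresentation_of_projective L _
  obtain ⟨κ, a, b, hb⟩ := Module.exists_basis_of_span_of_flat (fun x : s => (x : Ω[L⁄R]))
    (by rw [Subtype.range_coe]; exact hs)
  have : Finite κ := Module.Finite.finite_basis b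
  obtain ⟨m, ⟨e⟩⟩ := Finite.exists_equiv_fin κ
  choose v hv hvw using fun i : Fin m => (a (e.symm i)).2
  let w : Fin m → Ω[L⁄R] := b ∘ e.symm
  have hvw : ∀ i, KaehlerDifferential.D R L (algebraMap C L (v i)) = w i := fun i =>
    (hvw i).trans (hb _).symm
  have hli : LinearIndependent L w := b.linearIndependent.comp _ e.symm.injective
  have hsp : Submodule.span L (Set.range w) = ⊤ := by
    rw [Set.range_comp, e.symm.surjective.range_eq, Set.image_univ]
    exact b.span_eq
  refine ⟨m, v, ?_⟩
  let _ : Algebra (MvPolynomial (Fin m) R) C := (MvPolynomial.aeval v).toRingHom.toAlgebra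
  have : IsScalarTower R (MvPolynomial (Fin m) R) C :=
    IsScalarTower.of_algebraMap_eq fun a => ((MvPolynomial.aeval (R := R) v).commutes a).symm
  have : IsScalarTower R (MvPolynomial (Fin m) R) L := IsScalarTower.of_algebraMap_eq fun a => by
    show algebraMap R L a = algebraMap C L (algebraMap _ C (algebraMap R (MvPolynomial (Fin m) R) a))
    rw [← IsScalarTower.algebraMap_apply R (MvPolynomial (Fin m) R) C, ← IsScalarTower.algebraMap_apply R C L]
  have : Algebra.FormallySmooth R L := ‹Algebra.IsSmoothAt R q›
  have hq : Algebra.IsEtaleAt (MvPolynomial (Fin m) R) q := by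
    refine (JacCrit.EtaleBasis.formallyEtale_iff_bijective R (MvPolynomial (Fin m) R) L).2
      (JacCrit.EtaleBasis.bijective_iff.2 ?_)
    have e : (fun i : Fin m => KaehlerDifferential.D R L (algebraMap (MvPolynomial (Fin m) R) L (MvPolynomial.X i))) = w :=
      funext fun i => by
        show KaehlerDifferential.D R L (algebraMap C L (MvPolynomial.aeval v (MvPolynomial.X i))) = _
        rw [MvPolynomial.aeval_X, hvw]
    rw [e]
    exact ⟨hli, hsp⟩
  have : Algebra.FinitePresentation (MvPolynomial (Fin m) R) C :=
    Algebra.FinitePresentation.of_restrict_scalars_finitePresentation R _ _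
  obtain ⟨g, hg, het⟩ := Algebra.exists_etale_of_isEtaleAt (R := MvPolynomial (Fin m) R) (P := q)
  have hg' : σ g ∉ p := hg
  refine ⟨g * algebraMap R C (σ g), hv, ?_, ⟨g ^ 2, ?_⟩, ?_⟩
  · rw [map_mul, σ.commutes, Algebra.algebraMap_self, RingHom.id_apply]
    exact fun h => ((Ideal.IsPrime.mem_or_mem ‹p.IsPrime› h).elim hg' hg')
  · rw [map_mul, σ.commutes, Algebra.algebraMap_self, RingHom.id_apply, map_mul]; ring
  refine Algebra.basicOpen_subset_etaleLocus_iff_etale.1 (fun P hP => ?_)
  refine (Algebra.basicOpen_subset_etaleLocus_iff_etale (f := g)).2 het ?_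
  exact fun h => hP (Ideal.mul_mem_right _ _ h)

end Groth.Agent.Lib.SectionChart.Ring
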